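import Groth.Agent.BrnchLib.DimOneCompl
import Groth.Agent.BrnchLib.ComplMin
import Groth.Agent.FormCat.Descent
import Groth.Agent.H1EssEt.AnyInter
import Groth.Agent.VarDim.Basic

/-! Dimensions of the irreducible components of a henselian local ring, of its completion and of its strict
henselization. -/

noncomputable section

namespace Groth.Agent.H1C2Dim

universe u

open IsLocalRing

set_option linter.style.haveILetI false

theorem exists_minimalPrimes_dim_of_equiv_aux {R R' : Type u} [CommRing R] [CommRing R'] (e : R ≃+* R')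
    (p : WithBot ℕ∞ → Prop) (h : ∃ P ∈ minimalPrimes R, p (ringKrullDim (R ⧸ P))) :
    ∃ P ∈ minimalPrimes R', p (ringKrullDim (R' ⧸ P)) := by
  obtain ⟨P, hP, hp⟩ := h
  haveI := hP.1.1
  haveI : (P.comap e.symm.toRingHom).IsPrime := Ideal.IsPrime.comap _
  refine ⟨P.comap e.symm.toRingHom, ⟨⟨inferInstance, bot_le⟩, fun Q ⟨hQ, _⟩ hle x hx => ?_⟩, ?_⟩
  · have hsub : Q.comap e.toRingHom ≤ P := fun y hy => by
      simpa using hle hy
    rw [Ideal.mem_comap] at hx
    have := hP.2 ⟨hQ.comap e.toRingHom, bot_le⟩ hsub hx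
    rw [Ideal.mem_comap] at this
    simpa using this
  · have hmap : P.comap e.symm.toRingHom = P.map (e : R →+* R') := (Ideal.map_comap_of_equiv e).symm
    rwa [← ringKrullDim_eq_of_ringEquiv (Ideal.quotientEquiv P (P.comap e.symm.toRingHom) e hmap)]

theorem exists_minimalPrimes_dim_of_equiv {R R' : Type u} [CommRing R] [CommRing R'] (e : R ≃+* R')
    (p : WithBot ℕ∞ → Prop) : (∃ P ∈ minimalPrimes R, p (ringKrullDim (R ⧸ P))) ↔
      ∃ P ∈ minimalPrimes R', p (ringKrullDim (R' ⧸ P)) :=
  ⟨exists_minimalPrimes_dim_of_equiv_aux e p, exists_minimalPrimes_dim_of_equiv_aux e.symm p⟩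

/-- The faithful flatness for the algebra structure of the structure map. -/
theorem faithfullyFlat_toAlgebra (S T : Type u) [CommRing S] [CommRing T] [Algebra S T]
    [Module.FaithfullyFlat S T] : letI := (algebraMap S T).toAlgebra; Module.FaithfullyFlat S T := by
  rw [show (algebraMap S T).toAlgebra = ‹Algebra S T› from Algebra.algebra_ext _ _ fun _ => rfl]
  infer_instance

theorem le_one_of_not_two_le {d : WithBot ℕ∞} (h : ¬ (2 : WithBot ℕ∞) ≤ d) : d ≤ 1 := by
  induction d with
  | bot => exact bot_le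
  | coe a =>
    change ((a : ℕ∞) : WithBot ℕ∞) ≤ ((1 : ℕ∞) : WithBot ℕ∞)
    have h' : ¬ ((2 : ℕ∞) : WithBot ℕ∞) ≤ ((a : ℕ∞) : WithBot ℕ∞) := h
    rw [WithBot.coe_le_coe] at h' ⊢
    rw [← one_add_one_eq_two, ENat.add_one_le_iff (by simp)] at h'
    exact not_lt.1 h'

/-- Along a faithfully flat integral extension the components keep their dimensions. -/
theorem exists_minimalPrimes_dim_of_integral {S S' : Type u} [CommRing S] [CommRing S'] [Algebra S S']
    [Algebra.IsIntegral S S'] [Module.FaithfullyFlat S S'] (p : WithBot ℕ∞ → Prop) :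
    (∃ P ∈ minimalPrimes S, p (ringKrullDim (S ⧸ P))) ↔ ∃ P ∈ minimalPrimes S', p (ringKrullDim (S' ⧸ P)) := by
  have hff := faithfullyFlat_toAlgebra S S'
  have hdim : ∀ P' ∈ minimalPrimes S',
      ringKrullDim (S' ⧸ P') = ringKrullDim (S ⧸ P'.comap (algebraMap S S')) := fun P' hP' => by
    haveI := hP'.1.1
    haveI : P'.LiesOver (P'.comap (algebraMap S S')) := ⟨rfl⟩
    exact VarDim.ringKrullDim_eq_of_isIntegral
  constructor
  · rintro ⟨P, hP, hp⟩
    obtain ⟨P', hP', rfl⟩ := BrnchLib.surjOn_minimalPrimes (algebraMap S S') hff hP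
    exact ⟨P', hP', (hdim P' hP').symm ▸ hp⟩
  · rintro ⟨P', hP', hp⟩
    exact ⟨_, BrnchLib.comap_mem_minimalPrimes (algebraMap S S') hff hP', hdim P' hP' ▸ hp⟩

section Completion

variable (S : Type u) [CommRing S] [IsLocalRing S] [IsNoetherianRing S]

theorem ringKrullDim_cpl_quotient_map (p : Ideal S) [p.IsPrime] :
    ringKrullDim ((AdicCompletion (maximalIdeal S) S) ⧸ p.map (algebraMap S (AdicCompletion (maximalIdeal S) S))) = ringKrullDim (S ⧸ p) := by
  haveI : IsLocalRing (S ⧸ p) := IsLocalRing.of_surjective' (Ideal.Quotient.mk p) Ideal.Quotient.mk_surjective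
  exact FormCat.ringKrullDim_cpl_quotient S p

/-- A component of the completion is at most as big as the component it lies on. -/
theorem ringKrullDim_quotient_le (Q : Ideal (AdicCompletion (maximalIdeal S) S)) [Q.IsPrime] :
    ringKrullDim ((AdicCompletion (maximalIdeal S) S) ⧸ Q) ≤ ringKrullDim (S ⧸ Q.comap (algebraMap S (AdicCompletion (maximalIdeal S) S))) := by
  rw [← ringKrullDim_cpl_quotient_map S (Q.comap (algebraMap S (AdicCompletion (maximalIdeal S) S)))]
  exact ringKrullDim_le_of_surjective (Ideal.Quotient.factor Ideal.map_comap_le)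
    (Ideal.Quotient.factor_surjective Ideal.map_comap_le)

/-- A component of dimension at most one of the completion of a henselian ring is as big as the component it
lies on. -/
theorem ringKrullDim_quotient_eq [HenselianLocalRing S] {Q : Ideal (AdicCompletion (maximalIdeal S) S)}
    (hQ : Q ∈ minimalPrimes (AdicCompletion (maximalIdeal S) S)) (h1 : ringKrullDim ((AdicCompletion (maximalIdeal S) S) ⧸ Q) ≤ 1) :
    ringKrullDim ((AdicCompletion (maximalIdeal S) S) ⧸ Q) = ringKrullDim (S ⧸ Q.comap (algebraMap S (AdicCompletion (maximalIdeal S) S))) := by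
  haveI := hQ.1.1
  haveI : IsNoetherianRing (AdicCompletion (maximalIdeal S) S) := FlatLoc6.isNoetherianRing_cpl S
  haveI : Module.FaithfullyFlat S (AdicCompletion (maximalIdeal S) S) := Module.FaithfullyFlat.of_flat_of_isLocalHom
  have hm : (maximalIdeal S).map (algebraMap S (AdicCompletion (maximalIdeal S) S)) = maximalIdeal (AdicCompletion (maximalIdeal S) S) :=
    (AdicCompletion.maximalIdeal_eq_map (R := S)).symm
  have hrad := BrnchLib.radical_map_eq_of_dim_le_one hm (BrnchLib.exists_sub_of_mem S) hQ h1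
  refine le_antisymm (ringKrullDim_quotient_le S Q) ?_
  rw [← ringKrullDim_cpl_quotient_map S (Q.comap (algebraMap S (AdicCompletion (maximalIdeal S) S))), ringKrullDim_quotient, ringKrullDim_quotient,
    ← PrimeSpectrum.zeroLocus_radical, hrad]

theorem surjOn_minimalPrimes_cpl :
    Set.SurjOn (Ideal.comap (algebraMap S (AdicCompletion (maximalIdeal S) S))) (minimalPrimes (AdicCompletion (maximalIdeal S) S)) (minimalPrimes S) ∧
      Set.MapsTo (Ideal.comap (algebraMap S (AdicCompletion (maximalIdeal S) S))) (minimalPrimes (AdicCompletion (maximalIdeal S) S)) (minimalPrimes S) := by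
  haveI : IsNoetherianRing (AdicCompletion (maximalIdeal S) S) := FlatLoc6.isNoetherianRing_cpl S
  haveI : Module.FaithfullyFlat S (AdicCompletion (maximalIdeal S) S) := Module.FaithfullyFlat.of_flat_of_isLocalHom
  have hff := faithfullyFlat_toAlgebra S (AdicCompletion (maximalIdeal S) S)
  exact ⟨BrnchLib.surjOn_minimalPrimes _ hff, fun P hP => BrnchLib.comap_mem_minimalPrimes _ hff hP⟩

/-- A henselian ring has a component of dimension one iff its completion has one. -/
theorem exists_dim_eq_one_iff [HenselianLocalRing S] :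
    (∃ P ∈ minimalPrimes S, ringKrullDim (S ⧸ P) = 1) ↔
      ∃ Q ∈ minimalPrimes (AdicCompletion (maximalIdeal S) S), ringKrullDim ((AdicCompletion (maximalIdeal S) S) ⧸ Q) = 1 := by
  constructor
  · rintro ⟨P, hP, hp⟩
    obtain ⟨Q, hQ, rfl⟩ := (surjOn_minimalPrimes_cpl S).1 hP
    haveI := hQ.1.1
    exact ⟨Q, hQ, (ringKrullDim_quotient_eq S hQ ((ringKrullDim_quotient_le S Q).trans hp.le)).trans hp⟩
  · rintro ⟨Q, hQ, hq⟩
    exact ⟨_, (surjOn_minimalPrimes_cpl S).2 hQ, (ringKrullDim_quotient_eq S hQ hq.le).symm.trans hq⟩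

/-- All components of a henselian ring have dimension at least two iff those of its completion have. -/
theorem exists_dim_lt_two_iff [HenselianLocalRing S] :
    (∃ P ∈ minimalPrimes S, ¬ (2 : WithBot ℕ∞) ≤ ringKrullDim (S ⧸ P)) ↔
      ∃ Q ∈ minimalPrimes (AdicCompletion (maximalIdeal S) S), ¬ (2 : WithBot ℕ∞) ≤ ringKrullDim ((AdicCompletion (maximalIdeal S) S) ⧸ Q) := by
  constructor
  · rintro ⟨P, hP, hp⟩
    obtain ⟨Q, hQ, rfl⟩ := (surjOn_minimalPrimes_cpl S).1 hP
    haveI := hQ.1.1
    exact ⟨Q, hQ, fun h => hp (h.trans (ringKrullDim_quotient_le S Q))⟩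
  · rintro ⟨Q, hQ, hq⟩
    refine ⟨_, (surjOn_minimalPrimes_cpl S).2 hQ, fun h => hq ?_⟩
    exact (h.trans (ringKrullDim_quotient_eq S hQ (le_one_of_not_two_le hq)).ge)

end Completion

/-- A strict henselization of `A` is one of any henselization of `A`. -/
theorem exists_algebra_strictHenselization (A S S' : Type u) [CommRing A] [IsLocalRing A] [CommRing S]
    [IsLocalRing S] [Algebra A S] [IsLocalHom (algebraMap A S)] [Hensel.IsHenselization A S] [CommRing S']
    [IsLocalRing S'] [Algebra A S'] [IsLocalHom (algebraMap A S')] [hS' : Hensel.IsStrictHenselization A S'] :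
    ∃ (_ : Algebra S S') (_ : IsLocalHom (algebraMap S S')),
      Hensel.IsStrictHenselization S S' ∧ IsScalarTower A S S' := by
  haveI := hS'.henselian
  obtain ⟨ι, hι, -⟩ := _root_.Hensel.IsHenselization.universal (R := A) (S := S) S' (algebraMap A S') inferInstance
  haveI hloc : IsLocalHom ι := ⟨fun x hx => by
    by_contra h
    refine (notMem_maximalIdeal.2 hx) ?_
    have hle : (maximalIdeal S).map ι ≤ maximalIdeal S' := by
      rw [← Groth.Agent.Hensel.map_maximalIdeal_of_isHenselization A S, Ideal.map_map, hι, Ideal.map_le_iff_le_comap]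
      exact (IsLocalRing.maximalIdeal_comap (algebraMap A S')).ge
    exact hle (Ideal.mem_map_of_mem _ ((mem_maximalIdeal x).2 h))⟩
  letI := ι.toAlgebra
  haveI : IsLocalHom (algebraMap S S') := hloc
  haveI hT : IsScalarTower A S S' := .of_algebraMap_eq fun a => (RingHom.congr_fun hι a).symm
  refine ⟨ι.toAlgebra, hloc, ⟨hS'.henselian, ⟨hS'.isSepClosure.1, ?_⟩, fun T _ _ f hf τ hτ => ?_⟩, hT⟩
  · haveI : Algebra.IsSeparable (ResidueField A) (ResidueField S') := hS'.isSepClosure.2
    haveI : IsScalarTower (ResidueField A) (ResidueField S) (ResidueField S') :=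
      IsScalarTower.of_algebraMap_eq fun x => by
        obtain ⟨b, rfl⟩ := residue_surjective x
        show residue S' (algebraMap A S' b) = residue S' (algebraMap S S' (algebraMap A S b))
        rw [← IsScalarTower.algebraMap_apply]
    exact Algebra.isSeparable_tower_top_of_isSeparable (ResidueField A) (ResidueField S) (ResidueField S')
  · haveI := hf
    have hτ' : τ.comp (ResidueField.map (algebraMap A S')) = ResidueField.map (f.comp (algebraMap A S)) := by
      refine RingHom.ext fun x => ?_
      obtain ⟨b, rfl⟩ := residue_surjective x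
      have := RingHom.congr_fun hτ (residue S (algebraMap A S b))
      simp only [RingHom.comp_apply, ResidueField.map_residue] at this ⊢
      rwa [IsScalarTower.algebraMap_apply A S S']
    obtain ⟨g, ⟨hg, hgr⟩, huniq⟩ := hS'.universal T (f.comp (algebraMap A S)) τ hτ'
    obtain ⟨u, -, hu⟩ := _root_.Hensel.IsHenselization.universal (R := A) (S := S) T (f.comp (algebraMap A S)) inferInstance
    refine ⟨g, ⟨(hu _ ?_).trans (hu f rfl).symm, hgr⟩, fun g' hg' => huniq g' ⟨?_, hg'.2⟩⟩
    · show (g.comp (algebraMap S S')).comp (algebraMap A S) = f.comp (algebraMap A S)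
      rw [RingHom.comp_assoc, ← IsScalarTower.algebraMap_eq, hg]
    · rw [IsScalarTower.algebraMap_eq A S S', ← RingHom.comp_assoc, hg'.1]

/-- The components of a strict henselization have the dimensions of those of the henselization. -/
theorem exists_minimalPrimes_dim_strict (A S S' : Type u) [CommRing A] [IsLocalRing A] [CommRing S]
    [IsLocalRing S] [Algebra A S] [IsLocalHom (algebraMap A S)] [Hensel.IsHenselization A S] [CommRing S']
    [IsLocalRing S'] [Algebra A S'] [IsLocalHom (algebraMap A S')] [Hensel.IsStrictHenselization A S']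
    (p : WithBot ℕ∞ → Prop) :
    (∃ P ∈ minimalPrimes S, p (ringKrullDim (S ⧸ P))) ↔ ∃ P ∈ minimalPrimes S', p (ringKrullDim (S' ⧸ P)) := by
  obtain ⟨_, _, h, _⟩ := exists_algebra_strictHenselization A S S'
  haveI : HenselianLocalRing S := _root_.Hensel.IsHenselization.henselian (R := A)
  haveI := H1EssEt.isIntegral_strictHenselization S S'
  haveI := (Groth.Agent.Hensel.isHenzLike_of_isStrictHenselization S S').faithfullyFlat
  exact exists_minimalPrimes_dim_of_integral p

/-- The same for the henselization and the completion of a Noetherian local ring. -/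
theorem exists_minimalPrimes_dim_completion (A S : Type u) [CommRing A] [IsLocalRing A] [IsNoetherianRing A]
    [CommRing S] [IsLocalRing S] [Algebra A S] [IsLocalHom (algebraMap A S)] [Hensel.IsHenselization A S] :
    ((∃ P ∈ minimalPrimes S, ringKrullDim (S ⧸ P) = 1) ↔
      ∃ Q ∈ minimalPrimes (AdicCompletion (maximalIdeal A) A), ringKrullDim (AdicCompletion (maximalIdeal A) A ⧸ Q) = 1) ∧
    ((∃ P ∈ minimalPrimes S, ¬ (2 : WithBot ℕ∞) ≤ ringKrullDim (S ⧸ P)) ↔
      ∃ Q ∈ minimalPrimes (AdicCompletion (maximalIdeal A) A),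
        ¬ (2 : WithBot ℕ∞) ≤ ringKrullDim (AdicCompletion (maximalIdeal A) A ⧸ Q)) := by
  haveI : HenselianLocalRing S := _root_.Hensel.IsHenselization.henselian (R := A)
  haveI : IsNoetherianRing S :=
    (Groth.Agent.Hensel.isHenzLike_of_isHenselization A S).isNoetherianRing_iff.1 inferInstance
  exact ⟨(exists_dim_eq_one_iff S).trans
      (exists_minimalPrimes_dim_of_equiv (BrnchLib.complEquiv A S) (fun d => d = 1)),
    (exists_dim_lt_two_iff S).trans
      (exists_minimalPrimes_dim_of_equiv (BrnchLib.complEquiv A S) (fun d => ¬ (2 : WithBot ℕ∞) ≤ d))⟩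

/-- Components over an ideal are the components of the quotient. -/
theorem exists_minimalPrimes_dim_quotient {R : Type u} [CommRing R] (I : Ideal R) (p : WithBot ℕ∞ → Prop) :
    (∃ P ∈ I.minimalPrimes, p (ringKrullDim (R ⧸ P))) ↔
      ∃ P ∈ minimalPrimes (R ⧸ I), p (ringKrullDim ((R ⧸ I) ⧸ P)) := by
  have hsurj : Function.Surjective (Ideal.Quotient.mk I) := Ideal.Quotient.mk_surjective
  constructor
  · rintro ⟨P, hP, hp⟩
    have hcq : (P.map (Ideal.Quotient.mk I)).comap (Ideal.Quotient.mk I) = P := by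
      rw [Ideal.comap_map_of_surjective _ hsurj, ← RingHom.ker_eq_comap_bot, Ideal.mk_ker, sup_of_le_left hP.1.2]
    haveI := hP.1.1
    haveI : (P.map (Ideal.Quotient.mk I)).IsPrime :=
      Ideal.map_isPrime_of_surjective hsurj (by rw [Ideal.mk_ker]; exact hP.1.2)
    refine ⟨P.map (Ideal.Quotient.mk I), ⟨⟨inferInstance, bot_le⟩, fun Q ⟨hQ, _⟩ hle => ?_⟩, ?_⟩
    · have h1 := hP.2 (y := Q.comap (Ideal.Quotient.mk I))
        ⟨hQ.comap _, by
          intro x hx
          rw [Ideal.mem_comap, Ideal.Quotient.eq_zero_iff_mem.2 hx]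
          exact Q.zero_mem⟩ ((Ideal.comap_mono hle).trans hcq.le)
      rw [← Ideal.map_comap_of_surjective _ hsurj Q]
      exact Ideal.map_mono h1
    · rwa [ringKrullDim_eq_of_ringEquiv (DoubleQuot.quotQuotEquivQuotOfLE hP.1.2)]
  · rintro ⟨Q, hQ, hq⟩
    haveI := hQ.1.1
    have hIle : I ≤ Q.comap (Ideal.Quotient.mk I) := fun x hx => by
      rw [Ideal.mem_comap, Ideal.Quotient.eq_zero_iff_mem.2 hx]
      exact Q.zero_mem
    refine ⟨Q.comap (Ideal.Quotient.mk I), ⟨⟨hQ.1.1.comap _, hIle⟩, fun P ⟨hP, hIP⟩ hle => ?_⟩, ?_⟩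
    · haveI := hP
      have hcq : (P.map (Ideal.Quotient.mk I)).comap (Ideal.Quotient.mk I) = P := by
        rw [Ideal.comap_map_of_surjective _ hsurj, ← RingHom.ker_eq_comap_bot, Ideal.mk_ker, sup_of_le_left hIP]
      haveI : (P.map (Ideal.Quotient.mk I)).IsPrime :=
        Ideal.map_isPrime_of_surjective hsurj (by rw [Ideal.mk_ker]; exact hIP)
      have h1 := hQ.2 (y := P.map (Ideal.Quotient.mk I)) ⟨inferInstance, bot_le⟩
        ((Ideal.map_mono hle).trans (Ideal.map_comap_of_surjective _ hsurj Q).le)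
      exact (Ideal.comap_mono h1).trans hcq.le
    · have e := ringKrullDim_eq_of_ringEquiv (DoubleQuot.quotQuotEquivQuotOfLE hIle)
      rw [Ideal.map_comap_of_surjective _ hsurj Q] at e
      rwa [← e]

end Groth.Agent.H1C2Dim
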