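import Groth.Agent.H1Branch.NormRedBij
import Groth.Agent.VarDim.Basic
import Mathlib.RingTheory.Ideal.GoingDown

/-! The dimensions of the components of a henselization are the heights of the maximal ideals of the
normalisation. -/

noncomputable section

namespace Groth.Agent.H1C2Dim

universe u

open IsLocalRing TensorProduct Groth.Agent.Hensel

set_option linter.style.haveILetI false

/-- Heights are preserved by a flat map whose fibres have dimension zero. -/
theorem height_comap_eq (B C : Type u) [CommRing B] [CommRing C] [Algebra B C] [Module.Flat B C]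
    (hfib : ∀ P Q : Ideal C, P.IsPrime → Q.IsPrime → P ≤ Q →
      P.comap (algebraMap B C) = Q.comap (algebraMap B C) → P = Q) (M : Ideal C) [hM : M.IsPrime] :
    M.height = (M.comap (algebraMap B C)).height := by
  have e1 : M.height = Order.height (⟨M, hM⟩ : PrimeSpectrum C) :=
    PrimeSpectrum.height_eq_orderHeight ⟨M, hM⟩
  have e2 : (M.comap (algebraMap B C)).height =
      Order.height (PrimeSpectrum.comap (algebraMap B C) ⟨M, hM⟩) :=
    PrimeSpectrum.height_eq_orderHeight (PrimeSpectrum.comap (algebraMap B C) ⟨M, hM⟩)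
  rw [e1, e2]
  refine le_antisymm (Order.height_le_height_apply_of_strictMono _ (fun P Q h => ?_) _) (Order.height_le fun l hl => ?_)
  · exact lt_of_le_of_ne (Ideal.comap_mono h.le) fun he => h.ne
      (PrimeSpectrum.ext (hfib _ _ P.isPrime Q.isPrime h.le (congrArg PrimeSpectrum.asIdeal he)))
  · haveI : M.LiesOver l.last.asIdeal := ⟨by rw [hl]; rfl⟩
    obtain ⟨L, hlen, hlast, -⟩ := Ideal.exists_ltSeries_of_hasGoingDown l M
    rw [← hlen]
    exact Order.length_le_height hlast.le

/-- If the primes above `Q` are the primes below `M` then the quotient and the local ring have the same dimension. -/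
theorem ringKrullDim_quotient_eq_height (C : Type u) [CommRing C] (Q M : Ideal C) [M.IsPrime]
    (h : ∀ P : Ideal C, P.IsPrime → (Q ≤ P ↔ P ≤ M)) : ringKrullDim (C ⧸ Q) = M.height := by
  rw [← IsLocalization.AtPrime.ringKrullDim_eq_height M (Localization.AtPrime M), ringKrullDim_quotient]
  have hset : PrimeSpectrum.zeroLocus (Q : Set C) = {p : PrimeSpectrum C | p.asIdeal ≤ M} := by
    ext p
    exact h p.asIdeal p.isPrime
  rw [hset]
  exact (Order.krullDim_eq_of_orderIso (IsLocalization.AtPrime.primeSpectrumOrderIso (Localization.AtPrime M) M)).symm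

set_option maxHeartbeats 1000000 in
/-- The dimensions of the components of a henselization are the heights of the maximal ideals of a cover whose
base change has its components separated. -/
theorem exists_cover_dim_iff (A S B : Type u) [CommRing A] [CommRing S] [IsLocalRing A] [IsLocalRing S]
    [Algebra A S] [IsLocalHom (algebraMap A S)] (hH : IsHenzLike A S) [CommRing B] [Algebra A B]
    [Algebra.IsIntegral A B]
    (h1 : Set.BijOn (Ideal.comap (algebraMap S (S ⊗[A] B))) (minimalPrimes (S ⊗[A] B)) (minimalPrimes S))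
    (h2 : ∀ q ∈ minimalPrimes (S ⊗[A] B), ∃! m : Ideal (S ⊗[A] B), m.IsMaximal ∧ q ≤ m)
    (h3 : ∀ m : Ideal (S ⊗[A] B), m.IsMaximal → ∃! q : Ideal (S ⊗[A] B), q ∈ minimalPrimes (S ⊗[A] B) ∧ q ≤ m)
    (p : WithBot ℕ∞ → Prop) :
    (∃ m : MaximalSpectrum B, p (ringKrullDim (Localization.AtPrime m.asIdeal))) ↔
      ∃ q ∈ minimalPrimes S, p (ringKrullDim (S ⧸ q)) := by
  have := hH.faithfullyFlat
  let iR : B →+* S ⊗[A] B := (Algebra.TensorProduct.includeRight : B →ₐ[A] S ⊗[A] B).toRingHom
  let iL : S →+* S ⊗[A] B := algebraMap S (S ⊗[A] B)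
  have hcomm : iR.comp (algebraMap A B) = iL.comp (algebraMap A S) := RingHom.ext fun a => by
    simp only [iR, iL, AlgHom.toRingHom_eq_coe, RingHom.comp_apply, RingHom.coe_coe, AlgHom.commutes,
      ← IsScalarTower.algebraMap_apply]
  letI : Algebra B (S ⊗[A] B) := iR.toAlgebra
  let el : B ⊗[A] S ≃ₗ[B] S ⊗[A] B :=
    { (Algebra.TensorProduct.comm A B S).toAddEquiv with
      map_smul' := fun b x => by
        change Algebra.TensorProduct.comm A B S (b • x) = iR b * Algebra.TensorProduct.comm A B S x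
        rw [Algebra.smul_def, map_mul]
        simp [iR] }
  haveI : Module.FaithfullyFlat B (S ⊗[A] B) := Module.FaithfullyFlat.of_linearEquiv B (B ⊗[A] S) el.symm
  have hfib : ∀ P Q : Ideal (S ⊗[A] B), P.IsPrime → Q.IsPrime → P ≤ Q → P.comap iR = Q.comap iR → P = Q := by
    intro P Q hP hQ hle he
    haveI := hP
    haveI := hQ
    haveI : (P.comap iL).IsPrime := Ideal.IsPrime.comap iL
    haveI : (Q.comap iL).IsPrime := Ideal.IsPrime.comap iL
    have hL : P.comap iL = Q.comap iL := hH.eq_of_le_of_comap_eq (Ideal.comap_mono hle) (by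
      rw [Ideal.comap_comap, Ideal.comap_comap, ← hcomm, ← Ideal.comap_comap, ← Ideal.comap_comap, he])
    by_contra hne
    exact (Ideal.IsIntegral.comap_lt_comap (R := S) (lt_of_le_of_ne hle hne)).ne hL
  have hmax : ∀ n : Ideal (S ⊗[A] B), n.IsMaximal → (n.comap iR).IsMaximal := fun n hn => by
    refine Ideal.isMaximal_of_isIntegral_of_isMaximal_comap (R := A) _ ?_
    rw [Ideal.comap_comap, hcomm, ← Ideal.comap_comap,
      IsLocalRing.eq_maximalIdeal (Ideal.isMaximal_comap_of_isIntegral_of_isMaximal (R := S) n),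
      IsLocalRing.maximalIdeal_comap]
    infer_instance
  -- the component through a maximal ideal
  have key : ∀ Q ∈ minimalPrimes (S ⊗[A] B), ∀ M : Ideal (S ⊗[A] B), ∀ hM : M.IsMaximal, Q ≤ M →
      ringKrullDim (S ⧸ Q.comap iL) =
        ringKrullDim (Localization.AtPrime (M.comap iR) (hp := haveI := hM; Ideal.IsPrime.comap iR)) := by
    intro Q hQ M hM hQM
    haveI := hM
    haveI := hQ.1.1
    haveI : Q.LiesOver (Q.comap iL) := ⟨rfl⟩
    haveI : (M.comap iR).IsPrime := Ideal.IsPrime.comap iR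
    rw [IsLocalization.AtPrime.ringKrullDim_eq_height (M.comap iR) (Localization.AtPrime (M.comap iR)),
      ← VarDim.ringKrullDim_eq_of_isIntegral (R := S ⧸ Q.comap iL) (S := (S ⊗[A] B) ⧸ Q),
      ringKrullDim_quotient_eq_height _ Q M fun P hP => ?_, height_comap_eq B (S ⊗[A] B) hfib M]
    · rfl
    · constructor
      · intro hQP
        obtain ⟨M', hM', hPM'⟩ := Ideal.exists_le_maximal P hP.ne_top
        exact ((h2 Q hQ).unique ⟨hM, hQM⟩ ⟨hM', hQP.trans hPM'⟩) ▸ hPM'
      · intro hPM
        haveI := hP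
        obtain ⟨Q', hQ', hQ'P⟩ := Ideal.exists_minimalPrimes_le (I := (⊥ : Ideal (S ⊗[A] B))) (J := P) bot_le
        exact ((h3 M hM).unique ⟨hQ', hQ'P.trans hPM⟩ ⟨hQ, hQM⟩) ▸ hQ'P
  constructor
  · rintro ⟨⟨m, hm⟩, hp⟩
    haveI := hm
    obtain ⟨P, hP⟩ := PrimeSpectrum.comap_surjective_of_faithfullyFlat (B := S ⊗[A] B) (⟨m, hm.isPrime⟩ : PrimeSpectrum B)
    have hP' : P.asIdeal.comap iR = m := congr(($hP).asIdeal)
    obtain ⟨M, hM, hPM⟩ := Ideal.exists_le_maximal P.asIdeal P.isPrime.ne_top
    have hMm : M.comap iR = m :=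
      (hm.eq_of_le (hmax M hM).ne_top (hP'.ge.trans (Ideal.comap_mono hPM))).symm
    obtain ⟨Q, ⟨hQ, hQM⟩, -⟩ := h3 M hM
    subst hMm
    exact ⟨Q.comap iL, h1.mapsTo hQ, (key Q hQ M hM hQM).symm ▸ hp⟩
  · rintro ⟨q, hq, hp⟩
    obtain ⟨Q, hQ, rfl⟩ := h1.surjOn hq
    obtain ⟨M, ⟨hM, hQM⟩, -⟩ := h2 Q hQ
    exact ⟨⟨M.comap iR, hmax M hM⟩, key Q hQ M hM hQM ▸ hp⟩

/-- The dimensions of the components of a henselization are the heights of the maximal ideals of the
normalisation. -/
theorem exists_normRed_dim_iff (A : Type u) [CommRing A] [IsLocalRing A] (hfin : (minimalPrimes A).Finite)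
    (S : Type u) [CommRing S] [IsLocalRing S] [Algebra A S] [IsLocalHom (algebraMap A S)]
    [_root_.Hensel.IsHenselization A S] (p : WithBot ℕ∞ → Prop) :
    (∃ m : MaximalSpectrum (CAlg2.normRed A), p (ringKrullDim (Localization.AtPrime m.asIdeal))) ↔
      ∃ q ∈ minimalPrimes S, p (ringKrullDim (S ⧸ q)) := by
  haveI := hfin.to_subtype
  haveI : HenselianLocalRing S := _root_.Hensel.IsHenselization.henselian (R := A)
  have hH := isHenzLike_of_isHenselization A S
  have := hH.faithfullyFlat
  obtain ⟨h1, h2, h3⟩ := H1Branch.tensor_bijections A S hH (CAlg2.normRed A)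
    (fun n _ => H1Branch.isDomain_localization_tensor_henz A S (CAlg2.normRed A)
      (fun m _ => BrnchLib.isDomain_normal_localization (BrnchLib.comps A) m) n)
    (BrnchLib.bijOn_normRed A) (BrnchLib.birational_normRed A)
  exact exists_cover_dim_iff A S (CAlg2.normRed A) hH h1 h2 h3 p

end Groth.Agent.H1C2Dim
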